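import Cfsg.Agent.SmallExp.Setup
import Cfsg.Agent.Signalizer.Family
import Cfsg.Agent.Signalizer.BalanceWrt
import Cfsg.Agent.StronglyEmbedded.Basic
import Cfsg.Agent.Cores.CoprimeFactor
import Cfsg.Agent.S1279

/-!
# Groups all of whose `p'`-subgroups are abelian: a strongly embedded subgroup
-/

set_option autoImplicit false
set_option linter.style.haveILetI false

namespace CfsgLib.SmallExp

open Cfsg CfsgLib
open scoped Pointwise

variable {G : Type*} [Group G] [Finite G] {p : ℕ}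

theorem Cex.sylow_comm (h : Cex G p) (S : Sylow 2 G) :
    ∀ a ∈ (S : Subgroup G), ∀ b ∈ (S : Subgroup G), a * b = b * a :=
  h.comm _ (h.isPGroup_two S.2)

theorem conj_theta_le (n a : G) :
    (centralizerPPrimeCore 2 a).map (MulAut.conj n).toMonoidHom ≤
      centralizerPPrimeCore 2 (n * a * n⁻¹) := by
  haveI : Fact (Nat.Prime 2) := ⟨Nat.prime_two⟩
  refine BalanceWrt.le_centralizerPPrimeCore ?_ ?_ ?_
  · rintro _ ⟨x, hx, rfl⟩
    refine Subgroup.mem_centralizer_singleton_iff.mpr ?_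
    have hc : Commute x a :=
      Subgroup.mem_centralizer_singleton_iff.mp (Signalizer.centralizerPPrimeCore_le a hx)
    exact hc.map (MulAut.conj n).toMonoidHom
  · intro g hg
    have hg' : n⁻¹ * g * n ∈ Subgroup.centralizer ({a} : Set G) := by
      refine Subgroup.mem_centralizer_singleton_iff.mpr ?_
      have h1 : g * (n * a * n⁻¹) = n * a * n⁻¹ * g := Subgroup.mem_centralizer_singleton_iff.mp hg
      calc n⁻¹ * g * n * a = n⁻¹ * (g * (n * a * n⁻¹)) * n := by group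
        _ = _ := by rw [h1]; group
    have h2 := Subgroup.mem_normalizer_iff.mp (BalanceWrt.centralizer_le_normalizer (p := 2) a hg')
    refine Subgroup.mem_normalizer_iff.mpr fun w => ?_
    simp only [Subgroup.mem_map_equiv, MulAut.conj_symm_apply]
    rw [h2 (n⁻¹ * w * n)]
    constructor <;> intro hw <;> convert hw using 1 <;> group
  · rw [Subgroup.card_map_of_injective (MulAut.conj n).injective]
    exact Signalizer.centralizerPPrimeCore_not_dvd a

/-- Two subgroups of coprime index multiply to the whole group. -/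
theorem mem_mul_of_coprime_index {T A B : Subgroup G} (hA : A ≤ T) (hB : B ≤ T)
    (hcop : (A.relIndex T).Coprime (B.relIndex T)) {x : G} (hx : x ∈ T) :
    ∃ a ∈ A, ∃ b ∈ B, x = a * b := by
  have hsub : (A : Set G) * (B : Set G) ⊆ T := by
    rintro _ ⟨a, ha, b, hb, rfl⟩; exact T.mul_mem (hA ha) (hB hb)
  have hset : (A : Set G) * (B : Set G) = T := by
    refine Set.eq_of_subset_of_ncard_le hsub ?_ (Set.toFinite _)
    rw [← Nat.card_coe_set_eq, ← Nat.card_coe_set_eq]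
    have h1 := CfsgLib.Cores.card_prod_set_mul_card_inf A B
    have h2 : ((A ⊓ B).relIndex A) * Nat.card ↥(A ⊓ B) = Nat.card A := by
      rw [← Subgroup.relIndex_bot_left (A ⊓ B), mul_comm,
        Subgroup.relIndex_mul_relIndex _ _ _ bot_le inf_le_left, Subgroup.relIndex_bot_left]
    have h3 : A.relIndex T ∣ (A ⊓ B).relIndex T ∧ B.relIndex T ∣ (A ⊓ B).relIndex T :=
      ⟨Subgroup.relIndex_dvd_of_le_left _ inf_le_left, Subgroup.relIndex_dvd_of_le_left _ inf_le_right⟩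
    have h4 : (A ⊓ B).relIndex A * A.relIndex T = (A ⊓ B).relIndex T :=
      Subgroup.relIndex_mul_relIndex _ _ _ inf_le_left hA
    have h5 : B.relIndex T ≤ (A ⊓ B).relIndex A := by
      refine Nat.le_of_dvd (Nat.pos_of_ne_zero ?_) (hcop.symm.dvd_of_dvd_mul_right (h4 ▸ h3.2))
      intro h0; rw [h0, zero_mul] at h2
      exact Nat.card_pos.ne' h2.symm
    have h6 : Nat.card B * B.relIndex T = Nat.card T := by
      rw [← Subgroup.relIndex_bot_left B, Subgroup.relIndex_mul_relIndex _ _ _ bot_le hB,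
        Subgroup.relIndex_bot_left]
    change Nat.card T ≤ _
    refine Nat.le_of_mul_le_mul_right ?_ (Nat.card_pos (α := ↥(A ⊓ B)))
    rw [h1]
    calc Nat.card T * Nat.card ↥(A ⊓ B) ≤ Nat.card B * (A ⊓ B).relIndex A * Nat.card ↥(A ⊓ B) :=
          Nat.mul_le_mul_right _ (h6 ▸ Nat.mul_le_mul_left _ h5)
      _ = _ := by rw [mul_assoc, h2, mul_comm]
  have : x ∈ (A : Set G) * (B : Set G) := hset.symm ▸ hx
  obtain ⟨a, ha, b, hb, rfl⟩ := this
  exact ⟨a, ha, b, hb, rfl⟩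

/-- A strongly embedded subgroup containing the normaliser of a Sylow 2-subgroup. -/
theorem Cex.exists_embedded (h : Cex G p) (S : Sylow 2 G) :
    ∃ M : Subgroup G, IsStronglyEmbedded M ∧
      Subgroup.normalizer ((S : Subgroup G) : Set G) ≤ M := by
  classical
  haveI : Fact (Nat.Prime 2) := ⟨Nat.prime_two⟩
  haveI : Fact p.Prime := ⟨h.prime⟩
  have hS := h.sylow_comm S
  set E := omegaTwo (S : Subgroup G) hS with hE
  have h8 : 8 ≤ Nat.card E := h.eight_le S hS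
  have hEA : IsElementaryAbelian 2 E :=
    ⟨⟨⟨fun a b => Subtype.ext (hS _ a.2.1 _ b.2.1)⟩⟩, fun a ha => ha.2⟩
  have hsolv : ∀ a ∈ E, a ≠ 1 → Group.IsSolvable ↥(Subgroup.centralizer ({a} : Set G)) :=
    fun a _ ha1 => h.solvable_centralizer ha1
  set θ : G → Subgroup G := fun a => centralizerPPrimeCore 2 a with hθdef
  have hθ : IsSolvableSignalizerFunctor 2 E θ :=
    Cfsg.Agent.S1279.result 2 E hEA (le_trans (by norm_num) h8) hsolv
  have hθodd : ∀ a : G, ¬ 2 ∣ Nat.card (θ a) := fun a => Signalizer.centralizerPPrimeCore_not_dvd a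
  set Δ := signalizerInf E θ with hΔ
  obtain ⟨a₀, ha₀, ha₀1⟩ := Signalizer.exists_ne_one_of_card (p := 2) (A := E) (by omega)
  have hΔle : ∀ a ∈ E, a ≠ 1 → Δ ≤ θ a := fun a ha ha1 x hx =>
    Signalizer.mem_signalizerInf.mp hx a ha ha1
  have hp2 : p ≠ 2 := by have := h.five; omega
  -- a maximal `p`-member
  have hbot : (⊥ : Subgroup G) ∈ signalizerFamily 2 E θ := by
    refine ⟨inferInstance, ?_, fun b _ u hu => ?_, fun a _ _ => ?_⟩
    · simp [Nat.dvd_one]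
    · rw [Subgroup.mem_bot] at hu ⊢; rw [hu]; group
    · simp
  obtain ⟨Q, hQF, hQp, -, hQmax⟩ := Signalizer.exists_max_family (q := p) hbot IsPGroup.of_bot
  have hcen : ∀ a ∈ E, E ≤ Subgroup.centralizer ({a} : Set G) := fun a ha =>
    Signalizer.le_centralizer_singleton hEA ha
  -- the invariant Sylow subgroups of `θ a`
  have hQa : ∀ a ∈ E, a ≠ 1 → (Q ⊓ θ a).relIndex (θ a) ∣ (Nat.card (θ a)) ∧
      ¬ p ∣ (Q ⊓ θ a).relIndex (θ a) ∧ IsPGroup p ((θ a) ⊓ Q : Subgroup G) := by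
    intro a ha ha1
    refine ⟨Subgroup.relIndex_dvd_card _ _, ?_, hQp.to_le inf_le_right⟩
    have hcop := Signalizer.family_coprime (p := 2) hEA (hθodd a)
    obtain ⟨R, hR⟩ := Coprime.exists_invariant_sylow (p := p)
      (Signalizer.theta_le_normalizer hθ ha ha1) hcop (Or.inr (hθ.2 a ha ha1))
    have hRF : (R : Subgroup (θ a)).map (θ a).subtype ∈ signalizerFamily 2 E θ :=
      Signalizer.mem_family_of_le_theta hθ ha ha1 (Subgroup.map_subtype_le _) hR
    obtain ⟨Q', hQ'F, hQ'p, hRQ', hQ'max⟩ :=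
      Signalizer.exists_max_family (q := p) hRF (R.isPGroup'.map _)
    obtain ⟨c, hc, hceq⟩ := Signalizer.family_transitivity hEA (le_trans (by norm_num) h8) hθ hp2
      hQF hQp hQmax hQ'F hQ'p hQ'max
    have hle : Nat.card ((R : Subgroup (θ a)).map (θ a).subtype) ≤ Nat.card ↥(Q ⊓ θ a) := by
      refine Nat.card_le_card_of_injective (fun x => ⟨c⁻¹ * x.1 * c, Subgroup.mem_inf.mpr ⟨?_, ?_⟩⟩) ?_
      · have := hRQ' x.2
        rw [hceq, Subgroup.mem_map_equiv, MulAut.conj_symm_apply] at this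
        exact this
      · exact mul_mem (mul_mem (inv_mem (hΔle a ha ha1 hc))
          (Subgroup.map_subtype_le _ x.2)) (hΔle a ha ha1 hc)
      · intro x y hxy
        simp only [Subtype.mk.injEq, mul_left_inj, mul_right_inj] at hxy
        exact Subtype.ext hxy
    intro hd
    rw [Subgroup.card_map_of_injective (θ a).subtype_injective, Sylow.card_eq_multiplicity] at hle
    obtain ⟨k, hk⟩ := IsPGroup.iff_card.mp (hQp.to_le (inf_le_left : Q ⊓ θ a ≤ Q))
    have hmul : Nat.card ↥(Q ⊓ θ a) * (Q ⊓ θ a).relIndex (θ a) = Nat.card (θ a) := by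
      rw [← Subgroup.relIndex_bot_left (Q ⊓ θ a),
        Subgroup.relIndex_mul_relIndex _ _ _ bot_le inf_le_right, Subgroup.relIndex_bot_left]
    obtain ⟨m, hm⟩ := hd
    rw [hk] at hle hmul
    have hd2 : p ^ (k + 1) ∣ Nat.card (θ a) := ⟨m, by rw [← hmul, hm, pow_succ]; ring⟩
    have := (h.prime.pow_dvd_iff_le_factorization Nat.card_pos.ne').mp hd2
    have := (Nat.pow_le_pow_iff_right h.prime.one_lt).mp hle
    omega
  have hprod : ∀ a ∈ E, a ≠ 1 → ∀ x ∈ θ a, ∃ q ∈ Q, ∃ d ∈ Δ, x = q * d := by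
    intro a ha ha1 x hx
    obtain ⟨hd, hnd, -⟩ := hQa a ha ha1
    have hΔp : ∀ r : ℕ, r.Prime → r ≠ p → ¬ r ∣ Δ.relIndex (θ a) := by
      intro r hr hrp
      haveI := Fact.mk hr
      obtain ⟨R, hR⟩ := Coprime.exists_invariant_sylow (p := r)
        (Signalizer.theta_le_normalizer hθ ha ha1)
        (Signalizer.family_coprime (p := 2) hEA (hθodd a)) (Or.inr (hθ.2 a ha ha1))
      have hnp : ¬ p ∣ Nat.card ((R : Subgroup (θ a)).map (θ a).subtype) := by
        rw [Subgroup.card_map_of_injective (θ a).subtype_injective, Sylow.card_eq_multiplicity]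
        exact fun hd => hrp ((Nat.prime_dvd_prime_iff_eq h.prime hr).mp
          (h.prime.dvd_of_dvd_pow hd)).symm
      have hRΔ : (R : Subgroup (θ a)).map (θ a).subtype ≤ Δ := by
        intro y hy
        refine Signalizer.mem_signalizerInf.mpr fun b hb hb1 => hθ.1.2.2.2 a ha ha1 b hb hb1
          ⟨Subgroup.map_subtype_le _ hy, Subgroup.mem_centralizer_singleton_iff.mpr ?_⟩
        exact (h.commute_of_normalizes hnp (h.not_dvd_of_sq hb.2) (hR hb) hy).symm
      intro hdd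
      have hle2 : (R : Subgroup (θ a)) ≤ Δ.subgroupOf (θ a) := fun y hy => hRΔ ⟨y, hy, rfl⟩
      exact R.not_dvd_index (hdd.trans (Subgroup.index_dvd_of_le hle2))
    have hcop : ((Q ⊓ θ a).relIndex (θ a)).Coprime (Δ.relIndex (θ a)) := by
      refine Nat.coprime_of_dvd fun r hr h1 h2 => ?_
      by_cases hrp : r = p
      · exact hnd (hrp ▸ h1)
      · exact hΔp r hr hrp h2
    obtain ⟨q, hq, d, hd', rfl⟩ :=
      mem_mul_of_coprime_index inf_le_right (hΔle a ha ha1) hcop hx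
    exact ⟨q, hq.1, d, hd', rfl⟩
  -- `Q Δ` is a subgroup
  have hEQ : E ≤ Subgroup.normalizer (Q : Set G) := Signalizer.family_le_normalizer hQF
  have hswap : ∀ q ∈ Q, ∀ d ∈ Δ, ∃ q' ∈ Q, ∃ d' ∈ Δ, d * q = q' * d' := by
    have hnc : ¬ IsCyclic E := by
      intro hc
      obtain ⟨g, hg⟩ := hc.exists_generator
      have h1 : Nat.card E = orderOf g := (orderOf_eq_card_of_forall_mem_zpowers hg).symm
      have h2 : orderOf g ∣ 2 := orderOf_dvd_of_pow_eq_one (Subtype.ext g.2.2)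
      have := Nat.le_of_dvd two_pos h2
      omega
    let Q₀ : Subgroup G := Subgroup.closure
      {q | q ∈ Q ∧ ∃ a ∈ E, a ≠ 1 ∧ q ∈ Subgroup.centralizer ({a} : Set G)}
    have hQle : Q ≤ Q₀ := by
      refine Coprime.le_of_centralizers hEA.1 hnc hEQ (Signalizer.family_coprime hEA hQF.2.1) ?_
      exact fun a ha ha1 q hq => Subgroup.subset_closure ⟨hq.1, a, ha, ha1, hq.2⟩
    intro q hq
    have hq0 : q ∈ (Q₀.toSubmonoid : Submonoid G) := hQle hq
    rw [Subgroup.closure_toSubmonoid_of_finite] at hq0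
    induction hq0 using Submonoid.closure_induction with
    | mem q hq' =>
      obtain ⟨hqQ, a, ha, ha1, hqc⟩ := hq'
      intro d hd
      exact hprod a ha ha1 _ (mul_mem (hΔle a ha ha1 hd) (hQF.2.2.2 a ha ha1 ⟨hqQ, hqc⟩))
    | one => exact fun d hd => ⟨1, one_mem _, d, hd, by simp⟩
    | mul q₁ q₂ h₁ h₂ ih₁ ih₂ =>
      intro d hd
      have hmem : ∀ {z : G}, z ∈ Submonoid.closure
          {q | q ∈ Q ∧ ∃ a ∈ E, a ≠ 1 ∧ q ∈ Subgroup.centralizer ({a} : Set G)} → z ∈ Q :=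
        fun hz => (Submonoid.closure_le (S := Q.toSubmonoid)).mpr (fun x hx => hx.1) hz
      obtain ⟨r₁, hr₁, d₁, hd₁, e₁⟩ := ih₁ (hmem h₁) d hd
      obtain ⟨r₂, hr₂, d₂, hd₂, e₂⟩ := ih₂ (hmem h₂) d₁ hd₁
      exact ⟨r₁ * r₂, mul_mem hr₁ hr₂, d₂, hd₂, by
        rw [← mul_assoc, e₁, mul_assoc r₁, e₂]; group⟩
  let X : Subgroup G :=
    { carrier := {x | ∃ q ∈ Q, ∃ d ∈ Δ, x = q * d}
      mul_mem' := by
        rintro _ _ ⟨q₁, hq₁, d₁, hd₁, rfl⟩ ⟨q₂, hq₂, d₂, hd₂, rfl⟩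
        obtain ⟨q₃, hq₃, d₃, hd₃, e⟩ := hswap q₂ hq₂ d₁ hd₁
        refine ⟨q₁ * q₃, mul_mem hq₁ hq₃, d₃ * d₂, mul_mem hd₃ hd₂, ?_⟩
        calc q₁ * d₁ * (q₂ * d₂) = q₁ * (d₁ * q₂) * d₂ := by group
          _ = _ := by rw [e]; group
      one_mem' := ⟨1, one_mem _, 1, one_mem _, (one_mul 1).symm⟩
      inv_mem' := by
        rintro _ ⟨q, hq, d, hd, rfl⟩
        obtain ⟨q', hq', d', hd', e⟩ := hswap q⁻¹ (inv_mem hq) d⁻¹ (inv_mem hd)
        exact ⟨q', hq', d', hd', by rw [mul_inv_rev, e]⟩ }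
  have hXset : (X : Set G) = (Q : Set G) * (Δ : Set G) := by
    ext x
    exact ⟨fun ⟨q, hq, d, hd, e⟩ => ⟨q, hq, d, hd, e.symm⟩,
      fun ⟨q, hq, d, hd, e⟩ => ⟨q, hq, d, hd, e.symm⟩⟩
  have hXtop : X ≠ ⊤ := by
    intro hX
    have h1 := CfsgLib.Cores.card_prod_set_mul_card_inf Q Δ
    rw [← hXset, hX, Subgroup.coe_top, Nat.card_univ] at h1
    have hd : 2 ∣ Nat.card Q * Nat.card Δ := h1 ▸ dvd_mul_of_dvd_left (even_iff_two_dvd.mp h.even) _
    rcases Nat.prime_two.dvd_mul.mp hd with h2 | h2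
    · exact hQF.2.1 h2
    · exact hθodd a₀ (h2.trans (Subgroup.card_dvd_of_le (hΔle a₀ ha₀ ha₀1)))
  set W := ⨆ a : {a : G // a ∈ E ∧ a ≠ 1}, θ (a : G) with hW
  have hWX : W ≤ X := iSup_le fun a x hx => hprod a.1 a.2.1 a.2.2 x hx
  have hWtop : W ≠ ⊤ := fun hh => hXtop (top_le_iff.mp (hh ▸ hWX))
  have hSsol : Group.IsSolvable (S : Subgroup G) := by
    haveI := (S.2).isNilpotent
    infer_instance
  have hNW : Subgroup.normalizer ((S : Subgroup G) : Set G) ≤ Subgroup.normalizer (W : Set G) := by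
    have key : ∀ n ∈ Subgroup.normalizer ((S : Subgroup G) : Set G),
        W ≤ W.comap (MulAut.conj n).toMonoidHom := by
      intro n hn
      refine iSup_le fun a x hx => ?_
      have h1 := conj_theta_le n a.1 ⟨x, hx, rfl⟩
      have ha' : n * a.1 * n⁻¹ ∈ E := ⟨conj_mem_of_mem_normalizer hn a.2.1.1,
        by rw [conj_pow, a.2.1.2, mul_one, mul_inv_cancel]⟩
      exact le_iSup (fun a : {a : G // a ∈ E ∧ a ≠ 1} => θ (a : G))
        ⟨_, ha', fun h1 => a.2.2 (conj_eq_one_iff.mp h1)⟩ h1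
    exact fun n hn => Subgroup.mem_normalizer_iff.mpr fun w =>
      ⟨fun hw => key n hn hw, fun hw => by
        simpa [mul_assoc] using (key n⁻¹ (inv_mem hn) hw : (MulAut.conj n⁻¹) (n * w * n⁻¹) ∈ W)⟩
  have hSN : (S : Subgroup G) ≤ Subgroup.normalizer ((S : Subgroup G) : Set G) :=
    Subgroup.le_normalizer
  obtain ⟨M, hMtop, hNM, hWM⟩ : ∃ M : Subgroup G, M ≠ ⊤ ∧
      Subgroup.normalizer ((S : Subgroup G) : Set G) ≤ M ∧ W ≤ M := by
    by_cases hW1 : W = ⊥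
    · exact ⟨_, h.normalizer_pGroup_ne_top S.2
        (S.ne_bot_of_dvd_card (even_iff_two_dvd.mp h.even)), le_rfl, hW1 ▸ bot_le⟩
    · exact ⟨_, h.normalizer_ne_top hW1 hWtop, hNW, Subgroup.le_normalizer⟩
  refine ⟨M, ?_, hNM⟩
  have hCM : ∀ a ∈ E, a ≠ 1 → Subgroup.centralizer ({a} : Set G) ≤ M := by
    intro a ha ha1
    have hSC : (S : Subgroup G) ≤ Subgroup.centralizer ({a} : Set G) := fun s hs =>
      Subgroup.mem_centralizer_singleton_iff.mpr (hS s hs a ha.1)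
    obtain ⟨-, h2, -⟩ := solvable_abelian_sylow (hsolv a ha ha1) hSC S.2
      (fun R _ hR hle => (S.is_maximal' hR hle).le) hS
    refine h2.trans (sup_le ?_ (inf_le_right.trans hNM))
    exact (le_iSup (fun a : {a : G // a ∈ E ∧ a ≠ 1} => θ (a : G)) ⟨a, ha, ha1⟩).trans hWM
  have hEM : ∀ t : G, orderOf t = 2 → t ∈ M → ∃ m ∈ M, m * t * m⁻¹ ∈ E := by
    intro t ht htM
    obtain ⟨T, hT⟩ := (isPGroup_zpowers (p := 2) (k := 1) (x := ⟨t, htM⟩)
      (Subtype.ext (by rw [pow_one, ← ht]; exact pow_orderOf_eq_one t))).exists_le_sylow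
    obtain ⟨m, hm⟩ := MulAction.exists_smul_eq M T (S.subtype (hSN.trans hNM))
    have hmem : m * ⟨t, htM⟩ * m⁻¹ ∈ ((m • T : Sylow 2 M) : Subgroup M) := by
      rw [Sylow.coe_subgroup_smul]
      exact ⟨⟨t, htM⟩, hT (Subgroup.mem_zpowers _), rfl⟩
    rw [hm, Sylow.coe_subtype, Subgroup.mem_subgroupOf] at hmem
    exact ⟨m, m.2, hmem, by
      rw [conj_pow, ← ht, pow_orderOf_eq_one, mul_one, mul_inv_cancel]⟩
  refine StronglyEmbedded.intro_of_conj_mem hMtop ?_ fun t g ht htM hgM => ?_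
  · exact even_iff_two_dvd.mpr ((show 2 ∣ Nat.card (S : Subgroup G) from
      S.dvd_card_of_dvd_card (even_iff_two_dvd.mp h.even)).trans
        (Subgroup.card_dvd_of_le (hSN.trans hNM)))
  obtain ⟨m₁, hm₁, he₁⟩ := hEM t ht htM
  obtain ⟨m₂, hm₂, he₂⟩ := hEM _ (by rw [StronglyEmbedded.orderOf_conj, ht]) hgM
  haveI : IsMulCommutative ↥(S : Subgroup G) := ⟨⟨fun a b => Subtype.ext (hS _ a.2 _ b.2)⟩⟩
  set g' := (m₂ * g * m₁⁻¹)⁻¹ with hg'
  have heq : g'⁻¹ * (m₁ * t * m₁⁻¹) * g' = m₂ * (g * t * g⁻¹) * m₂⁻¹ := by rw [hg']; group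
  obtain ⟨n, hn, hn'⟩ := S.conj_eq_normalizer_conj_of_mem (m₁ * t * m₁⁻¹) g' he₁.1
    (heq ▸ he₂.1)
  have hc : n * g'⁻¹ ∈ M := by
    refine hCM _ he₁ (fun h1 => StronglyEmbedded.ne_one_of_orderOf_two ht (conj_eq_one_iff.mp h1))
      (Subgroup.mem_centralizer_singleton_iff.mpr ?_)
    calc n * g'⁻¹ * (m₁ * t * m₁⁻¹) = n * (g'⁻¹ * (m₁ * t * m₁⁻¹) * g') * g'⁻¹ := by group
      _ = n * (n⁻¹ * (m₁ * t * m₁⁻¹) * n) * g'⁻¹ := by rw [hn']
      _ = _ := by group
  have hmem := mul_mem (mul_mem (inv_mem hm₂) (mul_mem (inv_mem (hNM hn)) hc)) hm₁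
  rw [show m₂⁻¹ * (n⁻¹ * (n * g'⁻¹)) * m₁ = g by rw [hg']; group] at hmem
  exact hmem

end CfsgLib.SmallExp
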