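import Cfsg.Agent.Eq.Def_Local
import Cfsg.Agent.Signalizer.ConstrainedBalance
import Cfsg.Agent.Signalizer.Transitivity
import Cfsg.Agent.Involutions.SolvableCore
import Cfsg.Agent.Coprime.Sylow
import Cfsg.Agent.Coprime.Generation

/-!
# Groups all of whose `p'`-subgroups are abelian: general lemmas
-/

set_option autoImplicit false
set_option linter.style.haveILetI false

namespace CfsgLib.SmallExp

open Cfsg CfsgLib

variable {G : Type*} [Group G]

theorem conj_mem_of_mem_normalizer {Q : Subgroup G} {g x : G}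
    (hg : g ∈ Subgroup.normalizer (Q : Set G)) (hx : x ∈ Q) : g * x * g⁻¹ ∈ Q :=
  (Subgroup.mem_normalizer_iff.mp hg x).mp hx

theorem card_sup_dvd [Finite G] {Q K : Subgroup G} (h : K ≤ Subgroup.normalizer (Q : Set G)) :
    Nat.card ↥(Q ⊔ K : Subgroup G) ∣ Nat.card Q * Nat.card K := by
  haveI : (Q.subgroupOf (Q ⊔ K)).Normal :=
    Subgroup.normal_subgroupOf_of_le_normalizer (sup_le Subgroup.le_normalizer h)
  have h1 : (Q.subgroupOf (Q ⊔ K)).index ∣ Nat.card K := by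
    have htop : (K.subgroupOf (Q ⊔ K)) ⊔ Q.subgroupOf (Q ⊔ K) = ⊤ := by
      rw [← Subgroup.subgroupOf_sup le_sup_right le_sup_left, sup_comm K Q,
        Subgroup.subgroupOf_self]
    rw [← Subgroup.relIndex_top_right, ← htop, Subgroup.relIndex_sup_right]
    refine (Subgroup.relIndex_dvd_card _ _).trans (dvd_of_eq ?_)
    exact Nat.card_congr (Subgroup.subgroupOfEquivOfLe le_sup_right).toEquiv
  have h2 := Subgroup.card_mul_index (Q.subgroupOf (Q ⊔ K))
  rw [Nat.card_congr (Subgroup.subgroupOfEquivOfLe le_sup_left).toEquiv] at h2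
  exact dvd_of_eq h2.symm |>.trans (mul_dvd_mul_left _ h1)

theorem not_dvd_card_zpowers {p : ℕ} {t : G} (ht : ¬ p ∣ orderOf t) :
    ¬ p ∣ Nat.card (Subgroup.zpowers t) := by rwa [Nat.card_zpowers]

theorem isPGroup_zpowers {p k : ℕ} {x : G} (h : x ^ p ^ k = 1) :
    IsPGroup p (Subgroup.zpowers x) := by
  rintro ⟨y, hy⟩
  obtain ⟨i, rfl⟩ := Subgroup.mem_zpowers_iff.mp hy
  exact ⟨k, Subtype.ext (by
    show (x ^ i) ^ p ^ k = 1
    rw [← zpow_natCast, ← zpow_mul, mul_comm, zpow_mul, zpow_natCast, h, one_zpow])⟩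

theorem exists_pow_eq_one {p : ℕ} {Q : Subgroup G} (hQ : IsPGroup p Q) {x : G} (hx : x ∈ Q) :
    ∃ k : ℕ, x ^ p ^ k = 1 := by
  obtain ⟨k, hk⟩ := hQ ⟨x, hx⟩
  exact ⟨k, congrArg Subtype.val hk⟩

/-- An element is a product of powers of itself of `p`-power order and of order prime to `p`. -/
theorem exists_primary_split [Finite G] (x : G) (p : ℕ) [hp : Fact p.Prime] :
    ∃ a b : ℕ, x = x ^ a * x ^ b ∧ (∃ k : ℕ, (x ^ a) ^ p ^ k = 1) ∧ ¬ p ∣ orderOf (x ^ b) := by
  obtain ⟨k, m, hm, hxm⟩ := Nat.exists_eq_pow_mul_and_not_dvd (orderOf_pos x).ne' p hp.out.ne_one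
  have hm0 : m ≠ 0 := fun h => hm (h ▸ dvd_zero p)
  have hcop : (p ^ k).Coprime m := Nat.Coprime.pow_left k ((hp.out.coprime_iff_not_dvd).mpr hm)
  obtain ⟨z, hz1, hz2⟩ := Nat.chineseRemainder hcop 1 0
  obtain ⟨w, hw1, hw2⟩ := Nat.chineseRemainder hcop 0 1
  refine ⟨z, w, ?_, ⟨k, ?_⟩, ?_⟩
  · rw [← pow_add]
    conv_lhs => rw [← pow_one x]
    rw [pow_eq_pow_iff_modEq, hxm]
    exact (Nat.modEq_and_modEq_iff_modEq_mul hcop).mp
      ⟨by simpa using (hz1.add hw1).symm, by simpa using (hz2.add hw2).symm⟩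
  · rw [← pow_mul]
    refine orderOf_dvd_iff_pow_eq_one.mp (hxm ▸ ?_)
    rw [mul_comm z]
    exact mul_dvd_mul_left _ ((Nat.modEq_zero_iff_dvd).mp hz2)
  · have h1 : orderOf (x ^ w) ∣ m := orderOf_dvd_of_pow_eq_one (by
      rw [← pow_mul]
      refine orderOf_dvd_iff_pow_eq_one.mp (hxm ▸ ?_)
      exact mul_dvd_mul_right ((Nat.modEq_zero_iff_dvd).mp hw1) m)
    exact fun h => hm (h.trans h1)

/-- The odd core of `L`, as a subgroup of `G`. -/
def oddIn (L : Subgroup G) : Subgroup G := (pPrimeCore 2 ↥L).map L.subtype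

theorem oddIn_le (L : Subgroup G) : oddIn L ≤ L := Subgroup.map_subtype_le _

theorem not_dvd_oddIn [Finite G] (L : Subgroup G) : ¬ 2 ∣ Nat.card (oddIn L) := by
  haveI : Fact (Nat.Prime 2) := ⟨Nat.prime_two⟩
  rw [oddIn, Constrained.card_map_of_injective _ L.subtype_injective]
  exact Constrained.pPrimeCore_not_dvd

theorem le_normalizer_oddIn (L : Subgroup G) :
    L ≤ Subgroup.normalizer (oddIn L : Set G) := fun x hx => by
  haveI : (pPrimeCore 2 ↥L).Normal := Subgroup.sSup_normal _ fun _ h => h.1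
  refine Subgroup.le_normalizer_map _ ⟨⟨x, hx⟩, ?_, rfl⟩
  rw [Subgroup.normalizer_eq_top]
  exact Subgroup.mem_top _

/-- Structure of a solvable subgroup with an abelian Sylow 2-subgroup `T`. -/
theorem solvable_abelian_sylow [Finite G] {L T : Subgroup G} (hL : Group.IsSolvable L) (hTL : T ≤ L)
    (hT : IsPGroup 2 T) (hmax : ∀ R : Subgroup G, R ≤ L → IsPGroup 2 R → T ≤ R → R ≤ T)
    (hcomm : ∀ a ∈ T, ∀ b ∈ T, a * b = b * a) :
    L ≤ Subgroup.normalizer ((oddIn L ⊔ T : Subgroup G) : Set G) ∧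
      L ≤ oddIn L ⊔ (L ⊓ Subgroup.normalizer (T : Set G)) ∧
      L ⊓ Subgroup.centralizer (T : Set G) ≤ oddIn L ⊔ T := by
  haveI : Fact (Nat.Prime 2) := ⟨Nat.prime_two⟩
  haveI := hL
  set K := pPrimeCore 2 ↥L with hK
  haveI hKn : K.Normal := Subgroup.sSup_normal _ fun _ h => h.1
  let P : Sylow 2 ↥L :=
    { toSubgroup := T.subgroupOf L
      isPGroup' := hT.comap_of_injective L.subtype L.subtype_injective
      is_maximal' := fun {R} hR hle => by
        refine le_antisymm (fun x hx => ?_) hle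
        exact hmax (R.map L.subtype) (Subgroup.map_subtype_le _) (hR.map _)
          (fun t ht => ⟨⟨t, hTL ht⟩, hle ht, rfl⟩) ⟨x, hx, rfl⟩ }
  have hPmap : (P : Subgroup L).map L.subtype = T := Subgroup.map_subgroupOf_eq_of_le hTL
  set φ := QuotientGroup.mk' K
  have hφ : Function.Surjective φ := QuotientGroup.mk'_surjective K
  set Pb : Sylow 2 (↥L ⧸ K) := P.mapSurjective hφ with hPb
  have hPbc : (Pb : Subgroup (↥L ⧸ K)) = (P : Subgroup L).map φ := Sylow.coe_mapSurjective hφ P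
  have hC := SolvableCore.centralizer_pCore_le (p := 2)
    (SolvableCore.pPrimeCore_quotient_eq_bot (p := 2) (G := ↥L))
  haveI hn2 : (pCore 2 (↥L ⧸ K)).Normal := SolvableCore.pCore_normal' 2 _
  have h2P : pCore 2 (↥L ⧸ K) ≤ Pb :=
    hn2 |> fun _ => (Constrained.isPGroup_pCore).le_sylow_of_normal Pb
  have hPc : ∀ a ∈ (Pb : Subgroup (↥L ⧸ K)), ∀ b ∈ (Pb : Subgroup (↥L ⧸ K)), a * b = b * a := by
    intro a ha b hb
    rw [hPbc] at ha hb
    obtain ⟨a', ha', rfl⟩ := ha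
    obtain ⟨b', hb', rfl⟩ := hb
    rw [← map_mul, ← map_mul]
    exact congrArg _ (Subtype.ext (hcomm _ ha' _ hb'))
  have hPle : (Pb : Subgroup (↥L ⧸ K)) ≤ pCore 2 (↥L ⧸ K) := fun a ha =>
    hC (Subgroup.mem_centralizer_iff.mpr fun b hb => hPc b (h2P hb) a ha)
  have hPeq : (Pb : Subgroup (↥L ⧸ K)) = pCore 2 (↥L ⧸ K) := le_antisymm hPle h2P
  have hsup : (P : Subgroup L) ⊔ K = (pCore 2 (↥L ⧸ K)).comap φ := by
    rw [← hPeq, hPbc, Subgroup.comap_map_eq, QuotientGroup.ker_mk']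
  have hmapsup : ((P : Subgroup L) ⊔ K).map L.subtype = oddIn L ⊔ T := by
    rw [Subgroup.map_sup, hPmap, sup_comm]; rfl
  haveI hsn : ((P : Subgroup L) ⊔ K).Normal := hsup ▸ Subgroup.Normal.comap hn2 φ
  refine ⟨?_, ?_, ?_⟩
  · intro x hx
    rw [← hmapsup]
    refine Subgroup.le_normalizer_map _ ⟨⟨x, hx⟩, ?_, rfl⟩
    rw [Subgroup.normalizer_eq_top]
    exact Subgroup.mem_top _
  · intro x hx
    have htop := Sylow.normalizer_sup_eq_top' P (N := (P : Subgroup L) ⊔ K) le_sup_left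
    have hPN : (P : Subgroup L) ≤ Subgroup.normalizer (P : Set ↥L) := Subgroup.le_normalizer
    rw [← sup_assoc, sup_eq_left.mpr hPN] at htop
    have hx' : (⟨x, hx⟩ : L) ∈ Subgroup.normalizer (P : Set ↥L) ⊔ K := by
      rw [htop]; exact Subgroup.mem_top _
    have h3 := Subgroup.mem_map_of_mem L.subtype hx'
    rw [Subgroup.map_sup] at h3
    have hle : (Subgroup.normalizer (P : Set ↥L)).map L.subtype ≤
        L ⊓ Subgroup.normalizer (T : Set G) := by
      refine le_inf (Subgroup.map_subtype_le _) ?_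
      rw [← hPmap]
      exact Subgroup.le_normalizer_map _
    exact sup_le (le_sup_of_le_right hle) le_sup_left h3
  · intro x hx
    have h4 : φ ⟨x, hx.1⟩ ∈ pCore 2 (↥L ⧸ K) := by
      refine hC (Subgroup.mem_centralizer_iff.mpr fun b hb => ?_)
      rw [← hPeq, hPbc] at hb
      obtain ⟨b', hb', rfl⟩ := hb
      rw [← map_mul, ← map_mul]
      exact congrArg _ (Subtype.ext (Subgroup.mem_centralizer_iff.mp hx.2 _ hb'))
    have h5 : (⟨x, hx.1⟩ : L) ∈ (P : Subgroup L) ⊔ K := hsup ▸ h4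
    exact hmapsup ▸ Subgroup.mem_map_of_mem L.subtype h5

end CfsgLib.SmallExp
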