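import Cfsg.Agent.SmallExp.Basic
import Cfsg.Agent.Eq.Def_Transfer
import Mathlib.GroupTheory.Transfer

/-!
# Groups all of whose `p'`-subgroups are abelian: the minimal counterexample
-/

set_option autoImplicit false
set_option linter.style.haveILetI false

namespace CfsgLib.SmallExp

open Cfsg CfsgLib

variable {G : Type*} [Group G]

/-- A minimal non-solvable group whose `p'`-subgroups are abelian. -/
structure Cex (G : Type*) [Group G] (p : ℕ) : Prop where
  prime : p.Prime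
  five : 5 ≤ p
  comm : ∀ H : Subgroup G, ¬ p ∣ Nat.card H → ∀ a ∈ H, ∀ b ∈ H, a * b = b * a
  simple : ∀ N : Subgroup G, N.Normal → N = ⊥ ∨ N = ⊤
  nsolv : ¬ Group.IsSolvable G
  sub : ∀ L : Subgroup G, L ≠ ⊤ → Group.IsSolvable L
  even : Even (Nat.card G)

variable [Finite G] {p : ℕ}

/-- A `p'`-subgroup normalised by a `p'`-element is centralised by it. -/
theorem Cex.commute_of_normalizes (h : Cex G p) {Q : Subgroup G} (hQ : ¬ p ∣ Nat.card Q) {t : G}
    (ht : ¬ p ∣ orderOf t) (htQ : t ∈ Subgroup.normalizer (Q : Set G)) {q : G} (hq : q ∈ Q) :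
    t * q = q * t := by
  refine h.comm (Q ⊔ Subgroup.zpowers t) (fun hd => ?_) t
    (Subgroup.mem_sup_right (Subgroup.mem_zpowers t)) q (Subgroup.mem_sup_left hq)
  exact (h.prime.dvd_mul.mp (hd.trans (card_sup_dvd (Subgroup.zpowers_le.mpr htQ)))).elim hQ
    (not_dvd_card_zpowers ht)

theorem Cex.not_dvd_of_sq (h : Cex G p) {t : G} (ht : t ^ 2 = 1) : ¬ p ∣ orderOf t := fun hd => by
  have := Nat.le_of_dvd two_pos (hd.trans (orderOf_dvd_of_pow_eq_one ht))
  have := h.five
  omega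

theorem Cex.isPGroup_two (h : Cex G p) {Q : Subgroup G} (hQ : IsPGroup 2 Q) :
    ¬ p ∣ Nat.card Q := by
  haveI : Fact (Nat.Prime 2) := ⟨Nat.prime_two⟩
  obtain ⟨k, hk⟩ := IsPGroup.iff_card.mp hQ
  intro hd
  rw [hk] at hd
  have := Nat.le_of_dvd two_pos (h.prime.dvd_of_dvd_pow hd)
  have := h.five
  omega

theorem Cex.not_isPGroup (h : Cex G p) (q : ℕ) [Fact q.Prime] : ¬ IsPGroup q G := fun hG => by
  haveI := hG.isNilpotent
  exact h.nsolv inferInstance

theorem Cex.ne_top_of_solvable (h : Cex G p) {H : Subgroup G} (hH : Group.IsSolvable H) :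
    H ≠ ⊤ := by
  rintro rfl
  haveI := hH
  exact h.nsolv (solvable_of_surjective
    (f := (⊤ : Subgroup G).subtype) fun x => ⟨⟨x, Subgroup.mem_top x⟩, rfl⟩)

theorem Cex.normalizer_ne_top (h : Cex G p) {Q : Subgroup G} (h1 : Q ≠ ⊥) (h2 : Q ≠ ⊤) :
    Subgroup.normalizer (Q : Set G) ≠ ⊤ := fun he =>
  (h.simple Q (Subgroup.normalizer_eq_top_iff.mp he)).elim h1 h2

theorem Cex.normalizer_pGroup_ne_top (h : Cex G p) {q : ℕ} [Fact q.Prime] {Q : Subgroup G}
    (hQ : IsPGroup q Q) (h1 : Q ≠ ⊥) : Subgroup.normalizer (Q : Set G) ≠ ⊤ := by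
  refine h.normalizer_ne_top h1 (h.ne_top_of_solvable ?_)
  haveI := hQ.isNilpotent
  infer_instance

theorem Cex.centralizer_ne_top (h : Cex G p) {t : G} (ht : t ≠ 1) :
    Subgroup.centralizer ({t} : Set G) ≠ ⊤ := by
  intro he
  have hc : ∀ g : G, g * t = t * g := fun g =>
    Subgroup.mem_centralizer_singleton_iff.mp (he ▸ Subgroup.mem_top g)
  have hn : (Subgroup.zpowers t).Normal := ⟨fun x hx g => by
    obtain ⟨i, rfl⟩ := Subgroup.mem_zpowers_iff.mp hx
    have : Commute g (t ^ i) := (show Commute g t from hc g).zpow_right i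
    rw [this.eq, mul_inv_cancel_right]
    exact Subgroup.zpow_mem_zpowers t i⟩
  refine (h.simple _ hn).elim (fun h1 => ht (Subgroup.zpowers_eq_bot.mp h1)) fun h1 => ?_
  exact h.ne_top_of_solvable (Coprime.isSolvable_zpowers t) h1

theorem Cex.solvable_centralizer (h : Cex G p) {t : G} (ht : t ≠ 1) :
    Group.IsSolvable (Subgroup.centralizer ({t} : Set G)) :=
  h.sub _ (h.centralizer_ne_top ht)

/-- The elements `x` of an abelian subgroup with `x ^ 2 = 1`. -/
def omegaTwo (S : Subgroup G) (hS : ∀ a ∈ S, ∀ b ∈ S, a * b = b * a) : Subgroup G where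
  carrier := {x | x ∈ S ∧ x ^ 2 = 1}
  mul_mem' := fun {a b} ha hb => ⟨S.mul_mem ha.1 hb.1, by
    rw [(show Commute a b from hS a ha.1 b hb.1).mul_pow, ha.2, hb.2, one_mul]⟩
  one_mem' := ⟨S.one_mem, one_pow _⟩
  inv_mem' := fun {a} ha => ⟨S.inv_mem ha.1, by rw [inv_pow, ha.2, inv_one]⟩

omit [Finite G] in
theorem mem_omegaTwo {S : Subgroup G} {hS : ∀ a ∈ S, ∀ b ∈ S, a * b = b * a} {x : G} :
    x ∈ omegaTwo S hS ↔ x ∈ S ∧ x ^ 2 = 1 := Iff.rfl

/-- A `p`-element (`p` odd) normalising an abelian 2-group and centralising its involutions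
centralises it. -/
theorem commute_of_omega {q k : ℕ} (hq : Odd q) {S : Subgroup G}
    (hS : ∀ a ∈ S, ∀ b ∈ S, a * b = b * a) (h2 : IsPGroup 2 S) {y : G} (hy : y ^ q ^ k = 1)
    (hn : ∀ s ∈ S, y * s * y⁻¹ ∈ S) (he : ∀ e ∈ S, e ^ 2 = 1 → y * e = e * y) :
    ∀ s ∈ S, y * s = s * y := by
  suffices main : ∀ (j : ℕ), ∀ s ∈ S, s ^ 2 ^ j = 1 → y * s = s * y by
    intro s hs
    obtain ⟨j, hj⟩ := exists_pow_eq_one h2 hs
    exact main j s hs hj
  intro j
  induction j with
  | zero => intro s hs h1; rw [pow_zero, pow_one] at h1; simp [h1]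
  | succ j ih =>
    intro s hs h1
    have hsq : y * s ^ 2 = s ^ 2 * y := ih _ (S.pow_mem hs 2) (by rw [← pow_mul, ← pow_succ']; exact h1)
    set d := y * s * y⁻¹ * s⁻¹ with hd
    have hdS : d ∈ S := S.mul_mem (hn s hs) (S.inv_mem hs)
    have hd2 : d ^ 2 = 1 := by
      rw [hd, (show Commute (y * s * y⁻¹) s⁻¹ from hS _ (hn s hs) _ (S.inv_mem hs)).mul_pow,
        conj_pow, hsq, inv_pow]
      group
    have hyd : Commute y d := he d hdS hd2
    have hys : y * s * y⁻¹ = d * s := by rw [hd]; group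
    have hiter : ∀ i : ℕ, y ^ i * s * (y ^ i)⁻¹ = d ^ i * s := by
      intro i
      induction i with
      | zero => simp
      | succ i ih' =>
        calc y ^ (i + 1) * s * (y ^ (i + 1))⁻¹ = y * (y ^ i * s * (y ^ i)⁻¹) * y⁻¹ := by
              rw [pow_succ']; group
          _ = (y * d ^ i) * s * y⁻¹ := by rw [ih']; group
          _ = d ^ i * (y * s * y⁻¹) := by rw [(hyd.pow_right i).eq]; group
          _ = d ^ i * (d * s) := by rw [hys]
          _ = d ^ (i + 1) * s := (mul_assoc _ _ _).symm.trans (by rw [pow_succ])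
    have h5 := hiter (q ^ k)
    rw [hy, one_mul, inv_one, mul_one] at h5
    obtain ⟨m, hm⟩ := hq.pow (n := k)
    rw [hm, pow_succ, pow_mul, hd2, one_pow, one_mul] at h5
    have hd1 : d = 1 := mul_eq_right.mp h5.symm
    rw [hd1, one_mul] at hys
    exact mul_inv_eq_iff_eq_mul.mp hys

theorem Cex.odd (h : Cex G p) : Odd p := h.prime.odd_of_ne_two (by have := h.five; omega)

/-- Some `p`-element normalises and does not centralise a Sylow 2-subgroup. -/
theorem Cex.exists_moving (h : Cex G p) (S : Sylow 2 G)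
    (hS : ∀ a ∈ (S : Subgroup G), ∀ b ∈ (S : Subgroup G), a * b = b * a) :
    ∃ y ∈ Subgroup.normalizer ((S : Subgroup G) : Set G), (∃ k : ℕ, y ^ p ^ k = 1) ∧
      ∃ e ∈ omegaTwo (S : Subgroup G) hS, y * e ≠ e * y := by
  haveI : Fact (Nat.Prime 2) := ⟨Nat.prime_two⟩
  haveI : Fact p.Prime := ⟨h.prime⟩
  by_contra! hcon
  have hle : Subgroup.normalizer ((S : Subgroup G) : Set G) ≤
      Subgroup.centralizer ((S : Subgroup G) : Set G) := by
    intro n hn
    obtain ⟨a, b, hab, ⟨k, hk⟩, hb⟩ := exists_primary_split n p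
    have hA : ∀ s ∈ (S : Subgroup G), n ^ a * s = s * n ^ a := by
      refine commute_of_omega h.odd hS S.2 hk
        (fun s hs => conj_mem_of_mem_normalizer (pow_mem hn a) hs) fun e he he2 => ?_
      exact hcon _ (pow_mem hn a) ⟨k, hk⟩ e ⟨he, he2⟩
    refine Subgroup.mem_centralizer_iff.mpr fun s hs => ?_
    have hB : n ^ b * s = s * n ^ b :=
      h.commute_of_normalizes (h.isPGroup_two S.2) hb (pow_mem hn b) hs
    rw [hab]
    exact ((show Commute (n ^ a) s from hA s hs).mul_left hB).eq.symm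
  have hcomp := MonoidHom.ker_transferSylow_isComplement' S hle
  rcases h.simple _ (MonoidHom.normal_ker (MonoidHom.transferSylow S hle)) with hk | hk
  · have h1 : (S : Subgroup G) = ⊤ := by
      have := hcomp
      rw [hk, Subgroup.isComplement'_bot_left] at this
      exact this
    exact h.not_isPGroup 2 (fun g => by
      obtain ⟨k, hk'⟩ := S.2 ⟨g, h1 ▸ Subgroup.mem_top g⟩
      exact ⟨k, congrArg Subtype.val hk'⟩)
  · have h1 := hcomp
    rw [hk, Subgroup.isComplement'_top_left] at h1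
    exact S.ne_bot_of_dvd_card (even_iff_two_dvd.mp h.even) h1

/-- The involutions of a Sylow 2-subgroup generate a subgroup of order at least 8. -/
theorem Cex.eight_le (h : Cex G p) (S : Sylow 2 G)
    (hS : ∀ a ∈ (S : Subgroup G), ∀ b ∈ (S : Subgroup G), a * b = b * a) :
    8 ≤ Nat.card (omegaTwo (S : Subgroup G) hS) := by
  classical
  haveI : Fact (Nat.Prime 2) := ⟨Nat.prime_two⟩
  haveI : Fact p.Prime := ⟨h.prime⟩
  obtain ⟨y, hy, ⟨k, hk⟩, e, he, hye⟩ := h.exists_moving S hS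
  set E := omegaTwo (S : Subgroup G) hS with hE
  by_contra! hlt
  have h2 : IsPGroup 2 E := S.2.to_le fun x hx => hx.1
  obtain ⟨r, hr⟩ := IsPGroup.iff_card.mp h2
  have hr2 : r ≤ 2 := by
    by_contra! h3
    have := Nat.pow_le_pow_right two_pos h3
    omega
  have h4 : Nat.card E ≤ 4 := by
    rw [hr]; exact (Nat.pow_le_pow_right two_pos hr2).trans (by norm_num)
  have hmem : ∀ i : ℕ, y ^ i * e * (y ^ i)⁻¹ ∈ E := fun i =>
    ⟨conj_mem_of_mem_normalizer (pow_mem hy i) he.1, by rw [conj_pow, he.2, mul_one, mul_inv_cancel]⟩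
  let f : Option (Fin 4) → E
    | none => 1
    | some i => ⟨_, hmem (i : ℕ)⟩
  have hninj : ¬ Function.Injective f := fun hf => by
    have := Nat.card_le_card_of_injective f hf
    rw [Nat.card_eq_fintype_card, Fintype.card_option, Fintype.card_fin] at this
    omega
  have hcase : ∃ i j : ℕ, i < j ∧ j < 4 ∧ y ^ i * e * (y ^ i)⁻¹ = y ^ j * e * (y ^ j)⁻¹ := by
    have he1 : e ≠ 1 := fun h1 => hye (by rw [h1, mul_one, one_mul])
    rw [Function.not_injective_iff] at hninj
    obtain ⟨a, b, hab, hne⟩ := hninj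
    have hsome : ∀ i : Fin 4, f (some i) ≠ f none := fun i hi => he1 (by
      have h1 : y ^ (i : ℕ) * e * (y ^ (i : ℕ))⁻¹ = 1 := congrArg Subtype.val hi
      rwa [conj_eq_one_iff] at h1)
    rcases a with _ | i <;> rcases b with _ | j
    · exact absurd rfl hne
    · exact absurd hab.symm (hsome j)
    · exact absurd hab (hsome i)
    · have hij : (i : ℕ) ≠ j := fun hij => hne (congrArg some (Fin.ext hij))
      have h' := congrArg Subtype.val hab
      rcases lt_or_gt_of_ne hij with hlt' | hlt'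
      · exact ⟨i, j, hlt', j.2, h'⟩
      · exact ⟨j, i, hlt', i.2, h'.symm⟩
  obtain ⟨i, j, hij, hj, heq⟩ := hcase
  obtain ⟨d, rfl⟩ := Nat.exists_eq_add_of_lt hij
  have hd : Commute (y ^ (d + 1)) e := by
    rw [show i + d + 1 = i + (d + 1) by ring, pow_add] at heq
    have h5 : e = y ^ (d + 1) * e * (y ^ (d + 1))⁻¹ := by
      calc e = (y ^ i)⁻¹ * (y ^ i * e * (y ^ i)⁻¹) * y ^ i := by group
        _ = (y ^ i)⁻¹ * (y ^ i * y ^ (d + 1) * e * (y ^ i * y ^ (d + 1))⁻¹) * y ^ i := by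
          rw [heq]
        _ = _ := by group
    exact mul_inv_eq_iff_eq_mul.mp h5.symm
  have hcop : (p ^ k).Coprime (d + 1) := Nat.Coprime.pow_left k
    ((h.prime.coprime_iff_not_dvd).mpr fun hdd => by
      have := Nat.le_of_dvd (Nat.succ_pos d) hdd
      have := h.five
      omega)
  obtain ⟨z, hz⟩ := exists_pow_eq_self_of_coprime (x := y) (n := d + 1)
    (hcop.symm.coprime_dvd_right (orderOf_dvd_of_pow_eq_one hk))
  exact hye (hz ▸ (hd.pow_left z).eq)

end CfsgLib.SmallExp
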